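import Groth.Prelude.Def_W4c2quivmodsheafKron
import Mathlib.LinearAlgebra.Dual.Lemmas
import Mathlib.LinearAlgebra.Eigenspace.Triangularizable
import Mathlib.LinearAlgebra.FiniteDimensional.Lemmas

/-!
Semistable Kronecker modules.
-/

set_option autoImplicit false
set_option linter.style.haveILetI false

universe u v w

noncomputable section

namespace Groth.L02.Kron

open Module

variable {K : Type u} [Field K] {V : Type v} {W : Type w}
  [AddCommGroup V] [Module K V] [FiniteDimensional K V]
  [AddCommGroup W] [Module K W] [FiniteDimensional K W] {n : ℕ}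

theorem finrank_ann_eq (V' : Submodule K V) :
    finrank K V'.dualAnnihilator + finrank K V' = finrank K V := by
  rw [add_comm, Subspace.finrank_add_finrank_dualAnnihilator_eq V']

theorem coann_ann (W' : Submodule K (Dual K W)) : W'.dualCoannihilator.dualAnnihilator = W' :=
  Subspace.dualCoannihilator_dualAnnihilator_eq

/-- Weight inequalities pass to the dual module. -/
theorem dual_iff (P : ℕ → ℕ → Prop)
    (hP' : ∀ x y z, x ≤ z → y ≤ z → (P (z - x) (z - y) ↔ P y x)) (f : Fin n → (V →ₗ[K] W)) :
    (0 < finrank K V + finrank K W ∧ ∀ (V' : Submodule K V) (W' : Submodule K W), KronMod.IsSubrep f V' W' →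
        ¬ (V' = ⊥ ∧ W' = ⊥) → ¬ (V' = ⊤ ∧ W' = ⊤) → P (finrank K W * finrank K V') (finrank K V * finrank K W')) ↔
    (0 < finrank K (Dual K W) + finrank K (Dual K V) ∧
      ∀ (V' : Submodule K (Dual K W)) (W' : Submodule K (Dual K V)), KronMod.IsSubrep (fun j => (f j).dualMap) V' W' →
        ¬ (V' = ⊥ ∧ W' = ⊥) → ¬ (V' = ⊤ ∧ W' = ⊤) →
          P (finrank K (Dual K V) * finrank K V') (finrank K (Dual K W) * finrank K W')) := by
  simp only [Subspace.dual_finrank_eq, add_comm (finrank K W)]
  refine and_congr_right fun _ => ?_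
  have key : ∀ (A : Submodule K V) (B : Submodule K W), KronMod.IsSubrep f A B ↔
      KronMod.IsSubrep (fun j => (f j).dualMap) B.dualAnnihilator A.dualAnnihilator := by
    intro A B
    constructor
    · rintro h j _ ⟨φ, hφ, rfl⟩
      rw [Submodule.mem_dualAnnihilator]
      intro x hx
      exact (Submodule.mem_dualAnnihilator φ).1 hφ _ (h j ⟨x, hx, rfl⟩)
    · rintro h j _ ⟨x, hx, rfl⟩
      rw [← Subspace.dualAnnihilator_dualCoannihilator_eq (W := B), Submodule.mem_dualCoannihilator]
      exact fun φ hφ => (Submodule.mem_dualAnnihilator _).1 (h j ⟨φ, hφ, rfl⟩) x hx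
  have hineq : ∀ (A : Submodule K V) (B : Submodule K W),
      P (finrank K W * finrank K A) (finrank K V * finrank K B) ↔
        P (finrank K V * finrank K B.dualAnnihilator) (finrank K W * finrank K A.dualAnnihilator) := by
    intro A B
    have hA := finrank_ann_eq A
    have hB := finrank_ann_eq B
    rw [show finrank K B.dualAnnihilator = finrank K W - finrank K B by omega,
      show finrank K A.dualAnnihilator = finrank K V - finrank K A by omega, Nat.mul_sub, Nat.mul_sub,
      mul_comm (finrank K W) (finrank K V)]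
    refine (hP' _ _ _ (Nat.mul_le_mul_left _ (by omega)) ?_).symm
    rw [mul_comm (finrank K V) (finrank K W)]; exact Nat.mul_le_mul_left _ (by omega)
  constructor
  · intro h V' W' hs h1 h2
    rw [← coann_ann V', ← coann_ann W'] at hs h1 h2 ⊢
    refine (hineq _ _).1 (h _ _ ((key _ _).2 hs) (fun hb => h2 ?_) (fun hb => h1 ?_))
    · rw [hb.1, hb.2, Submodule.dualAnnihilator_bot, Submodule.dualAnnihilator_bot]; exact ⟨rfl, rfl⟩
    · rw [hb.1, hb.2, Submodule.dualAnnihilator_top, Submodule.dualAnnihilator_top]; exact ⟨rfl, rfl⟩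
  · intro h A B hs h1 h2
    refine (hineq _ _).2 (h _ _ ((key _ _).1 hs) (fun hb => h2 ⟨?_, ?_⟩) (fun hb => h1 ⟨?_, ?_⟩))
    · rw [← Subspace.dualAnnihilator_dualCoannihilator_eq (W := A), hb.2, Submodule.dualCoannihilator_bot]
    · rw [← Subspace.dualAnnihilator_dualCoannihilator_eq (W := B), hb.1, Submodule.dualCoannihilator_bot]
    · rw [← Subspace.dualAnnihilator_dualCoannihilator_eq (W := A), hb.2, Submodule.dualCoannihilator_top]
    · rw [← Subspace.dualAnnihilator_dualCoannihilator_eq (W := B), hb.1, Submodule.dualCoannihilator_top]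

theorem not_isStable_two [IsAlgClosed K] (f : Fin 2 → (V →ₗ[K] W)) (k : ℕ) (hk : 2 ≤ k)
    (hV : finrank K V = k) (hW : finrank K W = k) : ¬ KronMod.IsStable f := by
  rintro ⟨-, h⟩
  suffices ∃ (v : V) (w : W), v ≠ 0 ∧ ∀ j, f j v ∈ K ∙ w by
    obtain ⟨v, w, hv, hw⟩ := this
    have h1 := h (K ∙ v) (K ∙ w) (fun j => by
      rw [Submodule.map_span, Set.image_singleton, Submodule.span_singleton_le_iff_mem]; exact hw j)
      (fun hb => hv (Submodule.span_singleton_eq_bot.1 hb.1))
      (fun hb => by
        have h3 := finrank_span_singleton (K := K) hv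
        rw [hb.1, finrank_top, hV] at h3; omega)
    rw [finrank_span_singleton hv, hV, hW] at h1
    have h2 : finrank K (K ∙ w) ≤ 1 := (finrank_span_le_card {w}).trans (by simp)
    nlinarith
  by_cases hinj : Function.Injective (f 0)
  · let e := LinearMap.linearEquivOfInjective (f 0) hinj (hV.trans hW.symm)
    haveI : Nontrivial V := Module.nontrivial_of_finrank_pos (R := K) (by omega)
    obtain ⟨μ, hμ⟩ := Module.End.exists_eigenvalue (e.symm.toLinearMap ∘ₗ f 1)
    obtain ⟨v, hv⟩ := hμ.exists_hasEigenvector
    refine ⟨v, f 0 v, hv.2, fun j => ?_⟩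
    fin_cases j
    · exact Submodule.mem_span_singleton_self _
    · refine Submodule.mem_span_singleton.2 ⟨μ, ?_⟩
      have h4 := congrArg e hv.apply_eq_smul
      simp only [LinearMap.comp_apply, LinearEquiv.coe_coe, LinearEquiv.apply_symm_apply, map_smul] at h4
      exact h4.symm
  · rw [← LinearMap.ker_eq_bot, ← ne_eq, Submodule.ne_bot_iff] at hinj
    obtain ⟨v, hv, hv0⟩ := hinj
    refine ⟨v, f 1 v, hv0, fun j => ?_⟩
    fin_cases j
    · show f 0 v ∈ _
      rw [show (f 0) v = 0 from hv]; exact zero_mem _
    · exact Submodule.mem_span_singleton_self _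

theorem semistable_sum (hV : 0 < finrank K V) (hW : finrank K W = n * finrank K V) :
    (∃ f : Fin n → (V →ₗ[K] W), KronMod.IsSemistable f) ∧
    ∀ f f' : Fin n → (V →ₗ[K] W), KronMod.IsSemistable f → KronMod.IsSemistable f' → KronMod.AreIso f f' := by
  classical
  have hd : finrank K (Fin n → V) = finrank K W := by rw [Module.finrank_pi_fintype]; simp [hW]
  refine ⟨⟨fun j => (LinearEquiv.ofFinrankEq (Fin n → V) W hd).toLinearMap ∘ₗ LinearMap.single K (fun _ => V) j,
    by omega, fun V' W' hs _ _ => ?_⟩, fun f f' hf hf' => ?_⟩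
  · let e := LinearEquiv.ofFinrankEq (Fin n → V) W hd
    let m : (Fin n → V') →ₗ[K] W' :=
      { toFun := fun x => ⟨e fun i => (x i : V), by
          rw [← Finset.univ_sum_single (fun i => (x i : V)), map_sum]
          exact W'.sum_mem fun i _ => hs i ⟨x i, (x i).2, rfl⟩⟩
        map_add' := fun x y => Subtype.ext (map_add e (fun i => (x i : V)) fun i => (y i : V))
        map_smul' := fun c x => Subtype.ext (map_smul e c fun i => (x i : V)) }
    have hm := LinearMap.finrank_le_finrank_of_injective (f := m) fun x y h => funext fun i => Subtype.ext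
      (congrFun (e.injective (congrArg Subtype.val h)) i)
    rw [Module.finrank_pi_fintype] at hm
    simp at hm
    rw [hW]; nlinarith
  · have key : ∀ g : Fin n → (V →ₗ[K] W), KronMod.IsSemistable g →
        Function.Bijective (LinearMap.lsum K (fun _ => V) K g) := fun g hg => by
      have hsur : Function.Surjective (LinearMap.lsum K (fun _ => V) K g) := by
        rw [← LinearMap.range_eq_top]
        by_contra htop
        have h1 := hg.2 ⊤ (LinearMap.range (LinearMap.lsum K (fun _ => V) K g))
          (fun j => by rintro _ ⟨x, -, rfl⟩; exact ⟨Pi.single j x, by simp [Pi.single_apply, apply_ite]⟩)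
          (fun hb => by have := congrArg (fun S : Submodule K V => finrank K S) hb.1; simp at this; omega)
          (fun hb => htop hb.2)
        rw [finrank_top] at h1
        have h2 := Submodule.finrank_lt htop
        nlinarith
      exact ⟨(LinearMap.injective_iff_surjective_of_finrank_eq_finrank hd).2 hsur, hsur⟩
    let e := LinearEquiv.ofBijective _ (key f hf)
    let e' := LinearEquiv.ofBijective _ (key f' hf')
    refine ⟨LinearEquiv.refl K V, e.symm.trans e', fun j => LinearMap.ext fun x => ?_⟩
    have h1 : e (Pi.single j x) = f j x := by simp [e, Pi.single_apply, apply_ite]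
    have h2 : e' (Pi.single j x) = f' j x := by simp [e', Pi.single_apply, apply_ite]
    simp [← h1, ← h2]

theorem semistable_prod (hW : 0 < finrank K W) (hV : finrank K V = n * finrank K W) :
    (∃ f : Fin n → (V →ₗ[K] W), KronMod.IsSemistable f) ∧
    ∀ f f' : Fin n → (V →ₗ[K] W), KronMod.IsSemistable f → KronMod.IsSemistable f' → KronMod.AreIso f f' := by
  classical
  have hd : finrank K V = finrank K (Fin n → W) := by rw [Module.finrank_pi_fintype]; simp [hV]
  refine ⟨⟨fun j => LinearMap.proj j ∘ₗ (LinearEquiv.ofFinrankEq V (Fin n → W) hd).toLinearMap,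
    by omega, fun V' W' hs _ _ => ?_⟩, fun f f' hf hf' => ?_⟩
  · let e := LinearEquiv.ofFinrankEq V (Fin n → W) hd
    let m : V' →ₗ[K] (Fin n → W') := LinearMap.pi fun i =>
      ((LinearMap.proj i ∘ₗ e.toLinearMap) ∘ₗ V'.subtype).codRestrict W' fun x => hs i ⟨x, x.2, rfl⟩
    have hm := LinearMap.finrank_le_finrank_of_injective (f := m) fun x y h => Subtype.ext (e.injective
      (funext fun i => congrArg Subtype.val (congrFun h i)))
    rw [Module.finrank_pi_fintype] at hm
    simp at hm
    rw [hV]; nlinarith
  · have key : ∀ g : Fin n → (V →ₗ[K] W), KronMod.IsSemistable g → Function.Bijective (LinearMap.pi g) := fun g hg => by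
      have hinj : Function.Injective (LinearMap.pi g) := by
        rw [← LinearMap.ker_eq_bot]
        by_contra hbot
        have h1 := hg.2 (LinearMap.ker (LinearMap.pi g)) ⊥
          (fun j => by rintro _ ⟨x, hx, rfl⟩; exact (Submodule.mem_bot _).2 (congrFun (LinearMap.mem_ker.1 hx) j))
          (fun hb => hbot hb.1)
          (fun hb => by have := congrArg (fun S : Submodule K W => finrank K S) hb.2; simp at this; omega)
        rw [finrank_bot, mul_zero] at h1
        have h2 : finrank K (LinearMap.ker (LinearMap.pi g)) ≠ 0 := fun h0 => hbot (Submodule.finrank_eq_zero.1 h0)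
        nlinarith [Nat.pos_of_ne_zero h2]
      exact ⟨hinj, (LinearMap.injective_iff_surjective_of_finrank_eq_finrank hd).1 hinj⟩
    let e := LinearEquiv.ofBijective _ (key f hf)
    let e' := LinearEquiv.ofBijective _ (key f' hf')
    refine ⟨e.trans e'.symm, LinearEquiv.refl K W, fun j => LinearMap.ext fun x => ?_⟩
    have h1 : ∀ y, (e y) j = f j y := fun y => rfl
    have h2 : ∀ y, (e' y) j = f' j y := fun y => rfl
    simp [← h1, ← h2]

end Groth.L02.Kron
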