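import Mathlib.AlgebraicGeometry.AffineScheme
import Mathlib.RingTheory.Localization.Away.Basic
import Mathlib.Tactic.LinearCombination

/-!
A punctured plane is not affine.
-/

set_option autoImplicit false
set_option linter.style.haveILetI false
set_option backward.isDefEq.respectTransparency false
set_option backward.isDefEq.respectTransparency.types false

universe u

open CategoryTheory AlgebraicGeometry

noncomputable section

namespace Groth.L02.Punctured

theorem not_isAffineOpen_sup {R : CommRingCat.{u}} [IsDomain R] (s t : R) (hps : Prime s) (hs0 : s ≠ 0)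
    (ht0 : t ≠ 0) (hnt : ¬ s ∣ t) (hne : ∀ p q : R, p * s + q * t ≠ 1) :
    ¬ IsAffineOpen (X := Spec R) (PrimeSpectrum.basicOpen s ⊔ PrimeSpectrum.basicOpen t) := by
  classical
  intro hU
  let U : (Spec R).Opens := PrimeSpectrum.basicOpen s ⊔ PrimeSpectrum.basicOpen t
  have hsU : PrimeSpectrum.basicOpen s ≤ U := le_sup_left
  have htU : PrimeSpectrum.basicOpen t ≤ U := le_sup_right
  have hloc : ∀ f : R, f ≠ 0 → Function.Injective (algebraMap R Γ(Spec R, PrimeSpectrum.basicOpen f)) := fun f hf =>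
    IsLocalization.injective (M := Submonoid.powers f) _ (powers_le_nonZeroDivisors_of_noZeroDivisors hf)
  obtain ⟨a, b, hab⟩ : ∃ a b : Γ(Spec R, U), a * algebraMap R _ s + b * algebraMap R _ t = 1 := by
    have hbas : ∀ r : R, (Spec R).basicOpen (algebraMap R Γ(Spec R, U) r) = U ⊓ PrimeSpectrum.basicOpen r := fun r => by
      have h1 : algebraMap R Γ(Spec R, U) r = (Spec R).presheaf.map (homOfLE (le_top : U ≤ ⊤)).op
          ((Scheme.ΓSpecIso R).inv r) := rfl
      rw [h1, Scheme.basicOpen_res, basicOpen_eq_of_affine]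
    have hspan : Ideal.span ({algebraMap R _ s, algebraMap R _ t} : Set Γ(Spec R, U)) = ⊤ := by
      rw [← hU.self_le_iSup_basicOpen_iff]
      intro x hx
      rw [TopologicalSpace.Opens.mem_iSup]
      rcases hx with hx | hx
      · exact ⟨⟨_, Or.inl rfl⟩, by rw [hbas]; exact ⟨Or.inl hx, hx⟩⟩
      · exact ⟨⟨_, Or.inr rfl⟩, by rw [hbas]; exact ⟨Or.inr hx, hx⟩⟩
    exact Ideal.mem_span_pair.1 ((Ideal.eq_top_iff_one _).1 hspan)
  suffices hsec : ∀ a : Γ(Spec R, U), ∃ p : R,
      ((Spec R).presheaf.map (homOfLE hsU).op).hom a = algebraMap R Γ(Spec R, PrimeSpectrum.basicOpen s) p by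
    obtain ⟨p, hp⟩ := hsec a
    obtain ⟨q, hq⟩ := hsec b
    have h1 := congrArg ((Spec R).presheaf.map (homOfLE hsU).op).hom hab
    rw [map_add, map_mul, map_mul, map_one, hp, hq] at h1
    refine hne p q (hloc s hs0 ?_)
    rw [map_add, map_mul, map_mul, map_one]
    exact h1
  intro a
  obtain ⟨m, p, hp⟩ := IsLocalization.Away.surj (S := Γ(Spec R, PrimeSpectrum.basicOpen s)) s
    (((Spec R).presheaf.map (homOfLE hsU).op).hom a)
  obtain ⟨n, q, hq⟩ := IsLocalization.Away.surj (S := Γ(Spec R, PrimeSpectrum.basicOpen t)) t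
    (((Spec R).presheaf.map (homOfLE htU).op).hom a)
  have hle1 : PrimeSpectrum.basicOpen (s * t) ≤ PrimeSpectrum.basicOpen s := PrimeSpectrum.basicOpen_mul_le_left s t
  have hle2 : PrimeSpectrum.basicOpen (s * t) ≤ PrimeSpectrum.basicOpen t := PrimeSpectrum.basicOpen_mul_le_right s t
  let W : (Spec R).Opens := PrimeSpectrum.basicOpen (s * t)
  let r : Γ(Spec R, W) := ((Spec R).presheaf.map (homOfLE (hle1.trans hsU)).op).hom a
  have e1 : r * algebraMap R Γ(Spec R, W) s ^ m = algebraMap R Γ(Spec R, W) p := by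
    have h := congrArg ((Spec R).presheaf.map (homOfLE hle1).op).hom hp
    rw [map_mul, map_pow] at h
    exact h
  have e2 : r * algebraMap R Γ(Spec R, W) t ^ n = algebraMap R Γ(Spec R, W) q := by
    have h := congrArg ((Spec R).presheaf.map (homOfLE hle2).op).hom hq
    rw [map_mul, map_pow] at h
    exact h
  have e3 : q * s ^ m = p * t ^ n := hloc (s * t) (mul_ne_zero hs0 ht0) (by
    show algebraMap R Γ(Spec R, W) (q * s ^ m) = algebraMap R Γ(Spec R, W) (p * t ^ n)
    rw [map_mul, map_mul, map_pow, map_pow, ← e1, ← e2]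
    ring)
  obtain ⟨p', hp'⟩ : s ^ m ∣ p :=
    hps.pow_dvd_of_dvd_mul_left m (fun hd => hnt (hps.dvd_of_dvd_pow hd))
      (show s ^ m ∣ t ^ n * p from ⟨q, by linear_combination -e3⟩)
  refine ⟨p', ?_⟩
  have hu : IsUnit (algebraMap R Γ(Spec R, PrimeSpectrum.basicOpen s) s ^ m) :=
    (IsLocalization.Away.algebraMap_isUnit s).pow m
  refine hu.mul_left_injective ?_
  refine hp.trans ?_
  rw [hp', map_mul, map_pow, mul_comm]

end Groth.L02.Punctured
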