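import Mathlib.AlgebraicGeometry.Morphisms.SchemeTheoreticallyDominant
import Mathlib.AlgebraicGeometry.Morphisms.ClosedImmersion
import Mathlib.RingTheory.Flat.TorsionFree

/-!
Scheme-theoretically dominant morphisms: images and flatness over Dedekind domains.
-/

set_option autoImplicit false
set_option linter.style.haveILetI false

universe u

open CategoryTheory CategoryTheory.Limits AlgebraicGeometry

noncomputable section

namespace Groth.L02.STD

variable {X Y : Scheme.{u}}

theorem toImage_dominant (f : X ⟶ Y) [QuasiCompact f] : IsSchemeTheoreticallyDominant f.toImage := by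
  refine ⟨Scheme.IdealSheafData.ext_of_iSup_eq_top
    (fun U : Y.affineOpens => (⟨f.imageι ⁻¹ᵁ U.1, U.2.preimage f.imageι⟩ : f.image.affineOpens)) ?_ fun U => ?_⟩
  · rw [← Scheme.Hom.preimage_iSup, iSup_affineOpens_eq_top]
    rfl
  · rw [Scheme.Hom.ker_apply, Scheme.IdealSheafData.ideal_bot, Pi.bot_apply, ← RingHom.injective_iff_ker_eq_bot]
    exact f.toImage_app_injective U

theorem isIso_of_closedImmersion_of_dominant (f : X ⟶ Y) [IsClosedImmersion f] [IsSchemeTheoreticallyDominant f] :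
    IsIso f := by
  haveI : IsIso f.imageι := by
    rw [Scheme.Hom.imageι, Scheme.isIso_subschemeι_iff_eq_bot]
    exact f.ker_eq_bot
  rw [← f.toImage_imageι]
  infer_instance

/-- Flatness over a Dedekind domain descends along schematically dominant morphisms. -/
theorem flat_of_dominant (A : Type u) [CommRing A] [IsDedekindDomain A]
    (f : X ⟶ Y) (g : Y ⟶ Spec (CommRingCat.of A)) [QuasiCompact f] [IsSchemeTheoreticallyDominant f]
    [Flat (f ≫ g)] : Flat g := by
  refine (HasRingHomProperty.iff_of_iSup_eq_top (P := @Flat) _ (iSup_affineOpens_eq_top Y)).2 fun U => ?_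
  let S := Spec (CommRingCat.of A)
  let φ : Γ(S, ⊤) ⟶ Γ(Y, (U : Y.Opens)) := g.appLE ⊤ U (by simp)
  let e := Scheme.ΓSpecIso (CommRingCat.of A)
  show φ.hom.Flat
  suffices h : (e.inv ≫ φ).hom.Flat by
    have hφ : φ = e.hom ≫ e.inv ≫ φ := by simp
    rw [hφ, CommRingCat.hom_comp]
    exact RingHom.Flat.comp (RingHom.Flat.of_bijective (ConcreteCategory.bijective_of_isIso e.hom)) h
  letI : Algebra A Γ(Y, (U : Y.Opens)) := (e.inv ≫ φ).hom.toAlgebra
  show Module.Flat A Γ(Y, (U : Y.Opens))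
  rw [IsDedekindDomain.flat_iff_torsion_eq_bot, eq_bot_iff]
  rintro a ⟨⟨p, hp⟩, hpa⟩
  have hpa' : (e.inv ≫ φ).hom p * a = 0 := hpa
  show a = 0
  refine f.app_injective (U : Y.Opens) ?_
  rw [map_zero]
  refine X.IsSheaf.section_ext fun x hx => ?_
  obtain ⟨W, hW, hxW, hWU⟩ := exists_isAffineOpen_mem_and_subset (x := x) (U := f ⁻¹ᵁ U) hx
  refine ⟨W, hWU, hxW, ?_⟩
  rw [map_zero]
  let r : Γ(X, f ⁻¹ᵁ (U : Y.Opens)) ⟶ Γ(X, W) := X.presheaf.map (homOfLE hWU).op
  have key : φ ≫ f.app U ≫ r = (f ≫ g).appLE ⊤ W (by simp) := by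
    simp only [φ, r]
    have h5 : f.app (U : Y.Opens) ≫ X.presheaf.map (homOfLE (show W ≤ f ⁻¹ᵁ (U : Y.Opens) from hWU)).op =
        f.appLE U W hWU := rfl
    exact (congrArg (fun z => g.appLE ⊤ (U : Y.Opens) (by simp) ≫ z) h5).trans (Scheme.Hom.appLE_comp_appLE f g _ _ _ _ _)
  let θ := e.inv ≫ φ ≫ f.app U ≫ r
  have hθ : θ.hom.Flat := by
    show (e.inv ≫ φ ≫ f.app U ≫ r).hom.Flat
    rw [key, CommRingCat.hom_comp]
    exact RingHom.Flat.comp (RingHom.Flat.of_bijective (ConcreteCategory.bijective_of_isIso e.inv))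
      (Flat.flat_appLE (f := f ≫ g) (isAffineOpen_top _) hW _)
  letI : Algebra A Γ(X, W) := θ.hom.toAlgebra
  haveI : Module.Flat A Γ(X, W) := hθ
  have h2 : θ.hom p * (X.presheaf.map (homOfLE hWU).op).hom ((f.app U).hom a) = 0 := by
    have := congrArg (fun z => (X.presheaf.map (homOfLE hWU).op).hom ((f.app U).hom z)) hpa'
    rw [map_mul, map_mul, map_zero, map_zero] at this
    exact this
  refine Module.Flat.isSMulRegular_of_nonZeroDivisors hp (M := Γ(X, W)) ?_
  show θ.hom p * (X.presheaf.map (homOfLE hWU).op).hom ((f.app U).hom a) = θ.hom p * 0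
  rw [mul_zero]
  exact h2

end Groth.L02.STD
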